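import Cfsg.Agent.Lib.OutJThree.Data

/-!
An element of the triple cover of J3 commuting with a fixed element of order 17 has order dividing 255:
the commutant of that matrix and the scalars is generated by them as a commutative algebra, in which
every element satisfies `a ^ 256 = a`.
-/

set_option autoImplicit false

namespace CfsgLib.OutJThree

open CfsgLib.Sporadic CfsgLib.Sporadic.J3 CfsgLib.Schur CfsgLib.Fusion48.RepTable CfsgLib.Fusion48.JankoThree Cfsg.Spor

/-- Powers of two are additive on commuting elements in characteristic two. -/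
theorem add_pow_two_pow {R : Type*} [Ring R] (h2 : ∀ a : R, a + a = 0) :
    ∀ (n : ℕ) {a b : R}, a * b = b * a → (a + b) ^ 2 ^ n = a ^ 2 ^ n + b ^ 2 ^ n := by
  intro n
  induction n with
  | zero => intro a b _; simp
  | succ n ih =>
    intro a b hab
    have hc : Commute (a ^ 2 ^ n) (b ^ 2 ^ n) := Commute.pow_pow (show Commute a b from hab) _ _
    rw [pow_succ 2, pow_mul, pow_mul, pow_mul, ih hab, sq, sq, sq, mul_add, add_mul, add_mul, hc.eq]
    rw [show a ^ 2 ^ n * a ^ 2 ^ n + b ^ 2 ^ n * a ^ 2 ^ n + (b ^ 2 ^ n * a ^ 2 ^ n + b ^ 2 ^ n * b ^ 2 ^ n) =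
      a ^ 2 ^ n * a ^ 2 ^ n + (b ^ 2 ^ n * a ^ 2 ^ n + b ^ 2 ^ n * a ^ 2 ^ n) + b ^ 2 ^ n * b ^ 2 ^ n by abel,
      h2, add_zero]

/-- Sums of commuting elements fixed by the map `a ↦ a ^ 256` are fixed. -/
theorem sum_pow_fixed {R : Type*} [Ring R] (h2 : ∀ a : R, a + a = 0) {ι : Type*} (s : Finset ι) (f : ι → R)
    (hc : ∀ i j, f i * f j = f j * f i) (hf : ∀ i, f i ^ 256 = f i) :
    (∑ i ∈ s, f i) ^ 256 = ∑ i ∈ s, f i := by
  classical
  induction s using Finset.induction_on with
  | empty => simp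
  | insert i s hi ih =>
    rw [Finset.sum_insert hi, show (256 : ℕ) = 2 ^ 8 from rfl, add_pow_two_pow h2 8,
      ← show (256 : ℕ) = 2 ^ 8 from rfl, hf, ih]
    rw [Finset.mul_sum, Finset.sum_mul]
    exact Finset.sum_congr rfl fun j _ => hc i j

local notation "Mat18" => Matrix (Fin 18) (Fin 18) (ZMod 2)

theorem dec_fold (f : ℕ → ℕ) : ∀ (n a : ℕ), decF2 18 ((List.range n).foldr (fun k b => f k ^^^ b) a) =
    decF2 18 a + ∑ k ∈ Finset.range n, decF2 18 (f k) := by
  intro n
  induction n with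
  | zero => intro a; simp
  | succ n ih =>
    intro a
    rw [List.range_succ, List.foldr_append, List.foldr_cons, List.foldr_nil, ih, dec_xor,
      Finset.sum_range_succ]
    abel

theorem dec_rpw (c : ℕ) : ∀ n, decF2 18 (rpw c n) = decF2 18 c ^ n := by
  intro n
  induction n with
  | zero => rw [pow_zero]; exact J3.dec_one
  | succ n ih =>
    show decF2 18 (mulF2 18 (rpw c n) c) = _
    rw [mulF2_dec, ih, pow_succ]

theorem fixed_256 {R : Type*} [Monoid R] {s : R} {m : ℕ} (hs : s ^ m = 1) (hm : 256 % m = 1) :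
    s ^ 256 = s := by
  conv_lhs => rw [← Nat.div_add_mod 256 m, hm]
  rw [pow_succ, pow_mul, hs, one_pow, one_mul]

/-- The algebraic core: the commutant of two commuting elements with a cyclic column. -/
theorem fixed_of_commutant {R : Type*} [Ring R] (h2 : ∀ a : R, a + a = 0) {M S X V E : R} (phi : ℕ → R)
    (hXS : X * S = S * X) (hMX : M * X = X * M) (hMS : M * S = S * M) (hX17 : X ^ 17 = 1) (hS3 : S ^ 3 = 1)
    (hone : (1 : R) = ∑ k ∈ Finset.range 18, S ^ (k % 2) * X ^ (k / 2) * V * phi k) (hV : V * E = V)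
    (hq : ∀ k < 18, phi k * (M * V) = 0 ∨ phi k * (M * V) = E) : M ^ 256 = M := by
  classical
  have hcSX : Commute S X := hXS.symm
  let P : ℕ → R := fun k => S ^ (k % 2) * X ^ (k / 2)
  have hcomm : ∀ A : R, A * S = S * A → A * X = X * A → ∀ k, A * P k = P k * A := fun A h1 h2 k =>
    ((show Commute A S from h1).pow_right _).mul_right ((show Commute A X from h2).pow_right _)
  have hPS : ∀ k, P k * S = S * P k := fun k => (hcomm S rfl hcSX.eq k).symm
  have hPX : ∀ k, P k * X = X * P k := fun k => (hcomm X hXS rfl k).symm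
  let T : ℕ → R := fun k => if phi k * (M * V) = E then P k else 0
  have hT : ∀ k, T k = 0 ∨ T k = P k := fun k => by
    by_cases hk : phi k * (M * V) = E
    · exact Or.inr (if_pos hk)
    · exact Or.inl (if_neg hk)
  have hTk : ∀ A : R, A * S = S * A → A * X = X * A → ∀ k, A * T k = T k * A := fun A h1 h2 k => by
    rcases hT k with e | e <;> rw [e]
    · rw [mul_zero, zero_mul]
    · exact hcomm A h1 h2 k
  obtain ⟨p, hp⟩ : ∃ p : R, ∑ k ∈ Finset.range 18, T k = p := ⟨_, rfl⟩
  have hpc : ∀ k, p * P k = P k * p := fun k => by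
    rw [← hp, Finset.sum_mul, Finset.mul_sum]
    exact Finset.sum_congr rfl fun j _ => (hTk (P k) (hPS k) (hPX k) j).symm
  have hMV : M * V = p * V := by
    conv_lhs => rw [← one_mul (M * V), hone]
    rw [Finset.sum_mul, ← hp, Finset.sum_mul]
    refine Finset.sum_congr rfl fun k hk => ?_
    rw [mul_assoc]
    by_cases hE : phi k * (M * V) = E
    · simp only [T, if_pos hE]
      rw [hE, mul_assoc, hV]
    · simp only [T, if_neg hE]
      rcases hq k (Finset.mem_range.mp hk) with e | e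
      · rw [e, mul_zero, zero_mul]
      · exact absurd e hE
  have hMp : M + p = 0 := by
    conv_lhs => rw [← mul_one (M + p), hone]
    rw [Finset.mul_sum]
    refine Finset.sum_eq_zero fun k _ => ?_
    show (M + p) * (P k * V * phi k) = 0
    rw [← mul_assoc, ← mul_assoc, add_mul, hcomm M hMS hMX k, hpc k, ← mul_add, mul_assoc (P k), add_mul, hMV,
      h2, mul_zero, zero_mul]
  have hM : M = p := by
    calc M = M + (p + p) := by rw [h2, add_zero]
      _ = p := by rw [← add_assoc, hMp, zero_add]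
  rw [hM, ← hp]
  refine sum_pow_fixed h2 _ T (fun i j => ?_) (fun i => ?_)
  · rcases hT i with e | e <;> rw [e]
    · rw [zero_mul, mul_zero]
    · exact hTk (P i) (hPS i) (hPX i) j
  · rcases hT i with e | e <;> rw [e]
    · exact zero_pow (by norm_num)
    · show (S ^ (i % 2) * X ^ (i / 2)) ^ 256 = S ^ (i % 2) * X ^ (i / 2)
      rw [(hcSX.pow_pow _ _).mul_pow, ← pow_mul, ← pow_mul, mul_comm _ 256, mul_comm _ 256, pow_mul,
        pow_mul, fixed_256 hS3 rfl, fixed_256 hX17 rfl]

theorem dec_cycP (k : ℕ) :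
    decF2 18 (cycP k) = decF2 18 (scal 1) ^ (k % 2) * decF2 18 xRaw ^ (k / 2) := by
  rw [cycP, mulF2_dec, dec_rpw, dec_rpw]

theorem cyc_sum (hsum : (List.range 18).foldr
      (fun k a => mulF2 18 (mulF2 18 (cycP k) cycV) (cycPhi.getD k 0) ^^^ a) 0 = J3.one) :
    (1 : Mat18) = ∑ k ∈ Finset.range 18,
      decF2 18 (scal 1) ^ (k % 2) * decF2 18 xRaw ^ (k / 2) * decF2 18 cycV * decF2 18 (cycPhi.getD k 0) := by
  have hd := dec_fold (fun k => mulF2 18 (mulF2 18 (cycP k) cycV) (cycPhi.getD k 0)) 18 0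
  rw [hsum, J3.dec_one, dec_zero, zero_add] at hd
  refine hd.trans (Finset.sum_congr rfl fun k _ => ?_)
  rw [mulF2_dec, mulF2_dec, dec_cycP]

variable {F : Type*} [Field F] {ω : F} (h : FieldFour F ω)
include h

/-- The commutant of an element of order 17 has exponent dividing 255. -/
theorem pow_commutant {g x : threeJ3 F ω} (hx : (liftC h).Rep xRaw x) (hgx : g * x = x * g) :
    g ^ 255 = 1 := by
  have hraw := raw_ok
  simp only [Bool.and_eq_true, beq_iff_eq] at hraw
  obtain ⟨⟨⟨⟨-, h17⟩, -⟩, hs3⟩, -⟩ := hraw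
  have hc := cyc_ok
  simp only [Bool.and_eq_true, beq_iff_eq, List.all_eq_true, List.mem_range] at hc
  obtain ⟨⟨hsum, hVE⟩, hphi⟩ := hc
  have hXS : decF2 18 xRaw * decF2 18 (scal 1) = decF2 18 (scal 1) * decF2 18 xRaw := by
    rw [← hx.2]; exact comm_scal h x 1
  have hMX : h.emb g.1 * decF2 18 xRaw = decF2 18 xRaw * h.emb g.1 := by
    rw [← hx.2, ← map_mul, ← map_mul, ← Subgroup.coe_mul, ← Subgroup.coe_mul, hgx]
  have hX17 : decF2 18 xRaw ^ 17 = 1 := by rw [← dec_rpw, h17, J3.dec_one]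
  have hS3 : decF2 18 (scal 1) ^ 3 = 1 := by rw [← dec_rpw, hs3, J3.dec_one]
  have hone : (1 : Mat18) = ∑ k ∈ Finset.range 18,
      decF2 18 (scal 1) ^ (k % 2) * decF2 18 xRaw ^ (k / 2) * decF2 18 cycV * decF2 18 (cycPhi.getD k 0) :=
    cyc_sum hsum
  have hV : decF2 18 cycV * decF2 18 corner = decF2 18 cycV := by rw [← mulF2_dec, hVE]
  have hq : ∀ k < 18, decF2 18 (cycPhi.getD k 0) * (h.emb g.1 * decF2 18 cycV) = 0 ∨
      decF2 18 (cycPhi.getD k 0) * (h.emb g.1 * decF2 18 cycV) = decF2 18 corner := fun k hk => by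
    rw [← hphi k hk, mulF2_dec, ← hV]
    have e : decF2 18 corner * decF2 18 (cycPhi.getD k 0) * (h.emb g.1 * (decF2 18 cycV * decF2 18 corner)) =
        decF2 18 corner * (decF2 18 (cycPhi.getD k 0) * h.emb g.1 * decF2 18 cycV) * decF2 18 corner := by
      simp only [mul_assoc]
    rw [e]
    exact corner_sandwich _
  have hM := fixed_of_commutant mat_add_self (fun k => decF2 18 (cycPhi.getD k 0)) hXS hMX (comm_scal h g 1)
    hX17 hS3 hone hV hq
  have h256 : g ^ 256 = g :=
    Subtype.ext (h.emb_injective (by rw [SubmonoidClass.coe_pow, map_pow, hM]))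
  rwa [show (256 : ℕ) = 255 + 1 from rfl, pow_succ, mul_eq_right] at h256

end CfsgLib.OutJThree
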