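import Cfsg.Agent.Lib.OutJThree.Commutant
import Cfsg.Agent.Lib.Fusion48.JankoThreeMain
import Cfsg.Agent.Lib.Sporadic.J3Involution
import Cfsg.Prelude.Def_KGroupFacts

/-!
The outer automorphism group of J3 has order two.

An automorphism can be composed with an inner one so that it fixes an element `x` of order 17, an
involution `z` inverting it and an element `y` of order 8 normalizing `⟨x⟩` and centralizing `z`; then it
has two possibilities on a fourth generator in the centralizer of `z`.  The semilinear map on the triple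
cover inverts the centre, so it is not inner.
-/

set_option autoImplicit false

namespace CfsgLib.OutJThree

open CfsgLib.Sporadic CfsgLib.Sporadic.J3 CfsgLib.Schur CfsgLib.Fusion48.RepTable CfsgLib.Fusion48.JankoThree Cfsg.Spor
open scoped commutatorElement

theorem nodup_of_incB : ∀ {l : List ℕ}, incB l = true → l.Nodup
  | [], _ => List.nodup_nil
  | [a], _ => List.nodup_singleton a
  | a :: b :: l, h => by
    have key : ∀ (m : List ℕ) (u : ℕ), incB (u :: m) = true → ∀ v ∈ m, u < v := by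
      intro m
      induction m with
      | nil => intro u _ v hv; simp at hv
      | cons w m ih =>
        intro u hu v hv
        simp only [incB, Bool.and_eq_true, Nat.blt_eq] at hu
        rcases List.mem_cons.mp hv with rfl | hv
        · exact hu.1
        · exact hu.1.trans (ih w hu.2 v hv)
    have h' := h
    simp only [incB, Bool.and_eq_true, Nat.blt_eq] at h'
    exact List.nodup_cons.mpr ⟨fun hm => (key _ a h a hm).false, nodup_of_incB h'.2⟩

variable {F : Type*} [Field F] {ω : F} (h : FieldFour F ω)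

/-- Codes of elements of J3. -/
noncomputable abbrev jc : Coded (Cfsg.Spor.J3 F ω) := code h (MulEquiv.refl _)

include h

theorem finite_J3 : Finite (Cfsg.Spor.J3 F ω) := by
  have := h.finite_threeJ3
  infer_instance

theorem rep_pw {a : ℕ} {x : Cfsg.Spor.J3 F ω} (hx : (jc h).Rep a x) (n : ℕ) : (jc h).Rep (pw a n) (x ^ n) := by
  induction n with
  | zero => rw [pow_zero]; exact (jc h).rep_one
  | succ n ih => rw [pow_succ]; exact (jc h).rep_mul ih hx

theorem rep_eq_one {a : ℕ} {x : Cfsg.Spor.J3 F ω} (hx : (jc h).Rep a x) :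
    a = PcJankoThree.oneN ↔ x = 1 := by
  constructor
  · rintro rfl; exact (jc h).rep_uniq hx (jc h).rep_one
  · rintro rfl; exact (jc h).rep_code hx (jc h).rep_one

/-- What the test says. -/
theorem sigB_iff {q a : ℕ} {u v : Cfsg.Spor.J3 F ω} (hu : (jc h).Rep q u) (hv : (jc h).Rep a v) :
    sigB q a = true ↔ v * v ≠ 1 ∧ v * v * (v * v) = 1 ∧ u * v ≠ 1 ∧ u * v * (u * v) * (u * v) = 1 := by
  have e1 := rep_eq_one h ((jc h).rep_mul hv hv)
  have e2 := rep_eq_one h ((jc h).rep_mul ((jc h).rep_mul hv hv) ((jc h).rep_mul hv hv))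
  have e3 := rep_eq_one h ((jc h).rep_mul hu hv)
  have e4 := rep_eq_one h ((jc h).rep_mul ((jc h).rep_mul ((jc h).rep_mul hu hv) ((jc h).rep_mul hu hv))
    ((jc h).rep_mul hu hv))
  change (_ ↔ _) at e1 e2 e3 e4
  rw [Ne, Ne, ← e1, ← e2, ← e3, ← e4]
  simp only [sigB]
  split_ifs with h1 h2
  · simp only [beq_iff_eq] at h1
    exact ⟨fun e => absurd e (by simp), fun e => absurd h1 e.1⟩
  · simp only [beq_iff_eq] at h1 h2
    simp only [Bool.and_eq_true, bne_iff_ne, beq_iff_eq]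
    exact ⟨fun e => ⟨h1, h2, e.1, e.2⟩, fun e => ⟨e.2.2.1, e.2.2.2⟩⟩
  · simp only [beq_iff_eq] at h2
    exact ⟨fun e => absurd e (by simp), fun e => absurd e.2.1 h2⟩

theorem exists_valC (i : ℕ) : ∃ x, (jc h).Rep (valsC.getD i PcJankoThree.oneN) x := by
  refine slp_spec (jc h) (fun c hc => ?_) prog_okC i
  rcases List.mem_append.mp hc with hc | hc
  · obtain ⟨a, ha, rfl⟩ := List.mem_map.mp hc
    obtain ⟨g, hg, eg⟩ := h.allGens_mem a ha
    have hcan := List.all_eq_true.mp base_canon a ha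
    exact ⟨QuotientGroup.mk ⟨g, hg⟩,
      PcJankoThree.rep_norm h hcan (g := ⟨g, hg⟩) eg (PcJankoThree.norm_norm h hcan)⟩
  · exact exists_gen h _ c hc

theorem exists_named : (∃ u, (jc h).Rep xE u) ∧ (∃ u, (jc h).Rep yE u) ∧ (∃ u, (jc h).Rep cE u) ∧
    (∃ u, (jc h).Rep zTwo u) ∧ ∀ t ∈ trans, ∃ u, (jc h).Rep t u := by
  have hn := named_val
  simp only [Bool.and_eq_true, beq_iff_eq] at hn
  obtain ⟨⟨⟨⟨h1, h2⟩, h3⟩, h4⟩, h5⟩ := hn
  refine ⟨h1 ▸ exists_valC h _, h2 ▸ exists_valC h _, h3 ▸ exists_valC h _, h4 ▸ exists_valC h _, ?_⟩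
  intro t ht
  rw [← h5] at ht
  obtain ⟨i, -, rfl⟩ := List.mem_map.mp ht
  exact exists_valC h i

/-- The centralizer of an involution has order 1920. -/
theorem card_centralizer_involution {z : Cfsg.Spor.J3 F ω} (hz : orderOf z = 2) :
    Nat.card (Subgroup.centralizer ({z} : Set (Cfsg.Spor.J3 F ω))) = 1920 := by
  obtain ⟨t, ht, Q, hQn, -, hQ, -, -, ⟨e⟩⟩ := h.exists_centralizer_structure
  have hc : Nat.card (Subgroup.centralizer ({t} : Set (Cfsg.Spor.J3 F ω))) = 1920 := by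
    rw [Q.card_eq_card_quotient_mul_card_subgroup, hQ, Nat.card_congr e.toEquiv]
    rw [nat_card_alternatingGroup, Nat.card_eq_fintype_card, Fintype.card_fin]
    rfl
  obtain ⟨g, hg⟩ := isConj_iff.mp (h.isConj_involutions t z ht hz)
  rw [← hc]
  refine (Nat.card_congr (Equiv.subtypeEquiv (MulAut.conj g).toEquiv fun u => ?_)).symm
  simp only [Subgroup.mem_centralizer_singleton_iff]
  subst hg
  constructor
  · intro hu
    show g * u * g⁻¹ * (g * t * g⁻¹) = g * t * g⁻¹ * (g * u * g⁻¹)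
    simp only [mul_assoc, inv_mul_cancel_left]
    rw [← mul_assoc u, hu, mul_assoc]
  · intro hu
    change g * u * g⁻¹ * (g * t * g⁻¹) = g * t * g⁻¹ * (g * u * g⁻¹) at hu
    simp only [mul_assoc, inv_mul_cancel_left, mul_right_inj] at hu
    simpa only [← mul_assoc, mul_left_inj] using hu

theorem comm_of_codes {a b : ℕ} {u v : Cfsg.Spor.J3 F ω} (hu : (jc h).Rep a u) (hv : (jc h).Rep b v)
    (e : PcJankoThree.cmul a b = PcJankoThree.cmul b a) : u * v = v * u := by
  have h1 : (jc h).Rep (PcJankoThree.cmul a b) (u * v) := (jc h).rep_mul hu hv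
  have h2 : (jc h).Rep (PcJankoThree.cmul b a) (v * u) := (jc h).rep_mul hv hu
  rw [← e] at h2
  exact (jc h).rep_uniq h1 h2

/-- The table lists the centralizer of the involution. -/
theorem mem_cEls {z v : Cfsg.Spor.J3 F ω} (hz : (jc h).Rep zTwo z) (hz2 : orderOf z = 2) (hv : v * z = z * v) :
    ∃ a ∈ cEls, (jc h).Rep a v := by
  have := finite_J3 h
  have hok := cEls_ok
  simp only [Bool.and_eq_true, beq_iff_eq] at hok
  obtain ⟨hr1, -, -⟩ := tab_spec (jc h) (exists_rGen h _) r_table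
  have hcom : ∀ (l : List ℕ), l.all (fun t => PcJankoThree.cmul zTwo t == PcJankoThree.cmul t zTwo) = true →
      ∀ a, (a ∈ l ∨ a = PcJankoThree.oneN) → ∀ u, (jc h).Rep a u → z * u = u * z := by
    intro l hl a ha u hu
    rcases ha with ha | rfl
    · have := beq_iff_eq.mp (List.all_eq_true.mp hl a ha)
      exact comm_of_codes h hz hu this
    · rw [(rep_eq_one h hu).mp rfl, mul_one, one_mul]
  have hel : ∀ a ∈ cEls, ∃ u, (jc h).Rep a u ∧ u ∈ Subgroup.centralizer ({z} : Set (Cfsg.Spor.J3 F ω)) := by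
    intro a ha
    obtain ⟨p, -, rfl⟩ := List.mem_map.mp ha
    obtain ⟨r, hr⟩ : ∃ r, (jc h).Rep (rTab.getD p.1 PcJankoThree.oneN) r := by
      rcases getD_cases rTab p.1 PcJankoThree.oneN with e | e
      · exact (hr1 _ e).imp fun _ hu => hu.2
      · rw [e]; exact ⟨1, (jc h).rep_one⟩
    obtain ⟨t, ht⟩ : ∃ t, (jc h).Rep (trans.getD p.2 PcJankoThree.oneN) t := by
      rcases getD_cases trans p.2 PcJankoThree.oneN with e | e
      · exact (exists_named h).2.2.2.2 _ e
      · rw [e]; exact ⟨1, (jc h).rep_one⟩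
    refine ⟨r * t, (jc h).rep_mul hr ht, Subgroup.mem_centralizer_singleton_iff.mpr ?_⟩
    rw [mul_assoc, ← hcom trans trans_comm _ (getD_cases _ _ _) t ht, ← mul_assoc,
      ← hcom rTab r_comm _ (getD_cases _ _ _) r hr, mul_assoc]
  choose f hfr hfc using hel
  let G' : {a // a ∈ cEls} → Subgroup.centralizer ({z} : Set (Cfsg.Spor.J3 F ω)) :=
    fun a => ⟨f a.1 a.2, hfc a.1 a.2⟩
  have hinj : Function.Injective G' := fun a b e => by
    have e' : f a.1 a.2 = f b.1 b.2 := congrArg Subtype.val e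
    exact Subtype.ext ((jc h).rep_code (hfr a.1 a.2) (e' ▸ hfr b.1 b.2))
  have hcard : Nat.card {a // a ∈ cEls} = 1920 := by
    rw [Nat.card_eq_fintype_card, Fintype.card_of_subtype cEls.toFinset (fun c => List.mem_toFinset),
      List.toFinset_card_of_nodup (nodup_of_incB hok.1), hok.2]
  obtain ⟨⟨a, ha⟩, hG⟩ := (hinj.bijective_of_nat_card_le
    (by rw [card_centralizer_involution h hz2, hcard])).2 ⟨v, Subgroup.mem_centralizer_singleton_iff.mpr hv⟩
  refine ⟨a, ha, ?_⟩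
  have : f a ha = v := congrArg Subtype.val hG
  exact this ▸ hfr a ha

/-- The centralizer of the element of order 17 has exponent dividing 255. -/
theorem pow_centralizer {x u : Cfsg.Spor.J3 F ω} (hx : (jc h).Rep xE x) (hu : u * x = x * u) :
    u ^ 255 = 1 := by
  have := h.finite_threeJ3
  have hraw := raw_ok
  simp only [Bool.and_eq_true, beq_iff_eq, List.any_eq_true, List.mem_range] at hraw
  obtain ⟨⟨⟨⟨hcan, h17⟩, -⟩, -⟩, k, -, hk⟩ := hraw
  obtain ⟨-, -, g0, hg0, eg0⟩ := hx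
  obtain ⟨s, hs, es⟩ := PcJankoThree.exists_scalar h k
  have hl : (liftC h).Rep xRaw (s * g0) := ⟨hcan, by
    rw [Subgroup.coe_mul, map_mul, es, eg0, ← mulF2_dec]; exact congrArg _ hk⟩
  have hmk : (QuotientGroup.mk (s * g0) : Cfsg.Spor.J3 F ω) = x := by
    rw [QuotientGroup.mk_mul, (QuotientGroup.eq_one_iff s).mpr hs, one_mul]; exact hg0
  have hp17 : (s * g0) ^ 17 = 1 := Subtype.ext (h.emb_injective (by
    rw [SubmonoidClass.coe_pow, map_pow, hl.2, ← dec_rpw, h17, J3.dec_one, OneMemClass.coe_one, map_one]))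
  obtain ⟨g, rfl⟩ := QuotientGroup.mk_surjective u
  generalize s * g0 = l at hl hmk hp17
  have hz : g * l * g⁻¹ * l⁻¹ ∈ Subgroup.center (threeJ3 F ω) := by
    rw [← QuotientGroup.eq_one_iff]
    simp only [QuotientGroup.mk_mul, QuotientGroup.mk_inv, hmk]
    rw [hu, mul_inv_cancel_right, mul_inv_cancel]
  have hc17 : (g * l * g⁻¹ * l⁻¹) ^ 17 = 1 := by
    have hcm : Commute (g * l * g⁻¹ * l⁻¹) l := (Subgroup.mem_center_iff.mp hz l).symm
    have h' := hcm.mul_pow 17
    rw [inv_mul_cancel_right, hp17, mul_one, conj_pow, hp17, mul_one, mul_inv_cancel] at h'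
    exact h'.symm
  have hc3 : (g * l * g⁻¹ * l⁻¹) ^ 3 = 1 := by
    have := pow_card_eq_one' (x := (⟨_, hz⟩ : Subgroup.center (threeJ3 F ω)))
    rw [h.card_center] at this
    exact congrArg Subtype.val this
  have hc1 : g * l * g⁻¹ * l⁻¹ = 1 := by
    have := pow_gcd_eq_one.mpr ⟨hc3, hc17⟩
    simpa using this
  rw [mul_inv_eq_one, mul_inv_eq_iff_eq_mul] at hc1
  rw [← QuotientGroup.mk_pow, pow_commutant h hl hc1, QuotientGroup.mk_one]

/-- The relations among the three named elements. -/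
theorem named_rels {x y z : Cfsg.Spor.J3 F ω} (hx : (jc h).Rep xE x) (hy : (jc h).Rep yE y)
    (hz : (jc h).Rep zTwo z) :
    orderOf x = 17 ∧ orderOf z = 2 ∧ y * x * y⁻¹ = x ^ 2 ∧ z * y = y * z ∧ z * x * z⁻¹ = x⁻¹ := by
  have hr := rel_ok
  simp only [Bool.and_eq_true, beq_iff_eq, bne_iff_ne] at hr
  obtain ⟨⟨⟨⟨⟨⟨⟨h17, hx1⟩, hz1⟩, hzz⟩, hyx⟩, hzy⟩, -⟩, hzx⟩ := hr
  have hx17 : x ^ 17 = 1 := (rep_eq_one h (rep_pw h hx 17)).mp h17
  have : Fact (Nat.Prime 17) := ⟨by norm_num⟩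
  refine ⟨orderOf_eq_prime hx17 fun e => hx1 ((rep_eq_one h hx).mpr e), ?_, ?_, ?_, ?_⟩
  · have : Fact (Nat.Prime 2) := ⟨Nat.prime_two⟩
    exact orderOf_eq_prime (by rw [sq]; exact (rep_eq_one h ((jc h).rep_mul hz hz)).mp hzz)
      fun e => hz1 ((rep_eq_one h hz).mpr e)
  · rw [sq]
    exact conj_eq (jc h) hy hx ((jc h).rep_mul hx hx) hyx
  · exact comm_of_codes h hz hy hzy
  · rw [show x⁻¹ = x ^ 16 from inv_eq_of_mul_eq_one_right (by rw [← pow_succ']; exact hx17)]
    exact conj_eq (jc h) hz hx (rep_pw h hx 16) hzx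

/-- No element has order 16. -/
theorem pow_eight {v : Cfsg.Spor.J3 F ω} {k : ℕ} (hv : orderOf v = 2 ^ k) : v ^ 8 = 1 := by
  have := finite_J3 h
  have : Fact (Nat.Prime 2) := ⟨Nat.prime_two⟩
  obtain ⟨P, hP⟩ := exists_sylow h (MulEquiv.refl _)
  obtain ⟨Q, hQ⟩ := (IsPGroup.of_card (n := k)
    (show Nat.card (Subgroup.zpowers v) = 2 ^ k by rw [Nat.card_zpowers, hv])).exists_le_sylow
  obtain ⟨g, hg⟩ := MulAction.exists_smul_eq (Cfsg.Spor.J3 F ω) Q P
  have hmem : g * v * g⁻¹ ∈ (P : Subgroup (Cfsg.Spor.J3 F ω)) := by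
    rw [← hg]
    exact ⟨v, hQ (Subgroup.mem_zpowers v), rfl⟩
  rw [hP] at hmem
  obtain ⟨a, ha, har⟩ := ((p_spec h (MulEquiv.refl _)).2.1 _).mp hmem
  have h8 : (g * v * g⁻¹) ^ 8 = 1 :=
    (rep_eq_one h (rep_pw h har 8)).mp (beq_iff_eq.mp (List.all_eq_true.mp exponent_ok a ha))
  rw [conj_pow] at h8
  simpa using h8

/-- The element of order 17 is self-centralizing. -/
theorem centralizer_eq {x y z : Cfsg.Spor.J3 F ω} (hx : (jc h).Rep xE x) (hy : (jc h).Rep yE y)
    (hz : (jc h).Rep zTwo z) {u : Cfsg.Spor.J3 F ω} (hu : u * x = x * u) : u ∈ Subgroup.zpowers x := by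
  have := finite_J3 h
  have : Fact (Nat.Prime 17) := ⟨by norm_num⟩
  obtain ⟨hox, -, hyx, -, -⟩ := named_rels h hx hy hz
  let X := Subgroup.zpowers x
  let C := Subgroup.centralizer (X : Set (Cfsg.Spor.J3 F ω))
  let N := Subgroup.normalizer (X : Set (Cfsg.Spor.J3 F ω))
  have hX17 : Nat.card X = 17 := by rw [Nat.card_zpowers, hox]
  have hmemC : ∀ v, v ∈ C → v * x = x * v := fun v hv =>
    (Subgroup.mem_centralizer_iff.mp hv x (Subgroup.mem_zpowers x)).symm
  have hexp : ∀ v ∈ C, v ^ 255 = 1 := fun v hv => pow_centralizer h hx (hmemC v hv)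
  have hCd : Nat.card C ∣ 50232960 := h.card_J3 ▸ Subgroup.card_subgroup_dvd_card C
  have hnp : ∀ p, p.Prime → ¬ p ∣ 255 → ¬ p ∣ Nat.card C := by
    intro p hp hp' hd
    have := Fact.mk hp
    obtain ⟨v, hv⟩ := exists_prime_orderOf_dvd_card' (G := C) p hd
    refine hp' (hv ▸ orderOf_dvd_of_pow_eq_one (Subtype.ext ?_))
    simpa using hexp v.1 v.2
  have hC : Nat.card C ∣ 20655 := by
    have h2 : (Nat.card C).Coprime (2 ^ 7 * 19) :=
      Nat.Coprime.mul_right
        (Nat.Coprime.pow_right 7 ((Nat.Prime.coprime_iff_not_dvd Nat.prime_two).mpr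
          (hnp 2 Nat.prime_two (by norm_num))).symm)
        ((Nat.Prime.coprime_iff_not_dvd (by norm_num)).mpr (hnp 19 (by norm_num) (by norm_num))).symm
    exact h2.dvd_of_dvd_mul_left (show Nat.card C ∣ 2 ^ 7 * 19 * 20655 by norm_num; exact hCd)
  have hXC : X ≤ C := fun v hv => Subgroup.mem_centralizer_iff.mpr fun w hw => by
    obtain ⟨i, rfl⟩ := Subgroup.mem_zpowers_iff.mp hv
    obtain ⟨j, rfl⟩ := Subgroup.mem_zpowers_iff.mp hw
    rw [← zpow_add, ← zpow_add, add_comm]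
  have huC : u ∈ C := Subgroup.mem_centralizer_iff.mpr fun w hw => by
    obtain ⟨j, rfl⟩ := Subgroup.mem_zpowers_iff.mp hw
    exact ((show Commute u x from hu).zpow_right j).eq.symm
  obtain ⟨m, hm⟩ : 17 ∣ Nat.card C := hX17 ▸ Subgroup.card_dvd_of_le hXC
  have hm' : m ∣ 1215 := Nat.dvd_of_mul_dvd_mul_left (by norm_num : 0 < 17) (by rw [← hm]; exact hC)
  suffices hm1 : m = 1 by
    have : X = C := Subgroup.eq_of_le_of_card_ge hXC (by rw [hX17, hm, hm1])
    exact this.ge huC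
  have hcyc : IsCyclic X := Subgroup.isCyclic_zpowers x
  have hyN : y ∈ N := Subgroup.mem_normalizer_fintype fun w hw => by
    obtain ⟨j, rfl⟩ := Subgroup.mem_zpowers_iff.mp hw
    rw [← MulAut.conj_apply, map_zpow, MulAut.conj_apply, hyx]
    exact Subgroup.mem_zpowers_iff.mpr ⟨2 * j, by rw [zpow_mul]; norm_cast⟩
  let π := X.normalizerMonoidHom
  let μ : MulAut X ≃* (ZMod (Nat.card X))ˣ := IsCyclic.mulAutMulEquiv X
  have hU : Nat.card (ZMod (Nat.card X))ˣ = 16 := by
    rw [hX17, Nat.card_units, Nat.card_zmod]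
  have hA16 : Nat.card (MulAut X) = 16 := by rw [Nat.card_congr μ.toEquiv, hU]
  have hidx : (C.subgroupOf N).index = Nat.card π.range := by
    rw [← Subgroup.normalizerMonoidHom_ker, Subgroup.index_ker]
  have hd16 : Nat.card π.range ∣ 16 := hA16 ▸ Subgroup.card_subgroup_dvd_card _
  have hCN : C ≤ N := fun v hv => Subgroup.mem_normalizer_fintype fun w hw => by
    rw [← Subgroup.mem_centralizer_iff.mp hv w hw, mul_inv_cancel_right]
    exact hw
  have hy4 : π ⟨y, hyN⟩ ^ 4 ≠ 1 := by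
    intro e
    have e' := congrArg (fun α : MulAut X => ((α ⟨x, Subgroup.mem_zpowers x⟩ : X) : Cfsg.Spor.J3 F ω)) e
    rw [← map_pow] at e'
    change y ^ 4 * x * (y ^ 4)⁻¹ = x at e'
    have h16 : y ^ 4 * x * (y ^ 4)⁻¹ = x ^ 16 := by
      have step : ∀ w : Cfsg.Spor.J3 F ω, ∀ n : ℕ, w = x ^ n → y * w * y⁻¹ = x ^ (2 * n) := fun w n hw => by
        rw [hw, ← conj_pow, hyx, ← pow_mul]
      have h4 : y ^ 4 = y * y * y * y := by simp [pow_succ]
      calc y ^ 4 * x * (y ^ 4)⁻¹ = y * (y * (y * (y * x * y⁻¹) * y⁻¹) * y⁻¹) * y⁻¹ := by rw [h4]; group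
        _ = x ^ 16 := step _ 8 (step _ 4 (step _ 2 hyx))
    rw [h16, pow_succ, mul_eq_right] at e'
    have := orderOf_dvd_of_pow_eq_one e'
    rw [hox] at this
    norm_num at this
  have hd8 : 8 ∣ Nat.card π.range := by
    have hd := orderOf_dvd_natCard (⟨π ⟨y, hyN⟩, ⟨_, rfl⟩⟩ : π.range)
    rw [← orderOf_submonoid] at hd
    have hy16 : orderOf (π ⟨y, hyN⟩) ∣ 2 ^ 4 := by
      have h1 := orderOf_dvd_natCard (π ⟨y, hyN⟩)
      rwa [hA16] at h1
    obtain ⟨k, hk4, hk⟩ := (Nat.dvd_prime_pow Nat.prime_two).mp hy16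
    refine dvd_trans ?_ hd
    change 8 ∣ orderOf (π ⟨y, hyN⟩)
    rw [hk]
    have : ¬ k ≤ 2 := fun hle => hy4 (orderOf_dvd_iff_pow_eq_one.mp (hk ▸ pow_dvd_pow 2 hle))
    exact pow_dvd_pow 2 (show 3 ≤ k by omega)
  have h8 : Nat.card π.range = 8 := by
    obtain ⟨k, hk⟩ := hd8
    have hk2 : k ∣ 2 := Nat.dvd_of_mul_dvd_mul_left (by norm_num : 0 < 8) (by rw [← hk]; exact hd16)
    rcases (Nat.dvd_prime Nat.prime_two).mp hk2 with rfl | rfl
    · exact hk
    exfalso
    have htop : π.range = ⊤ := Subgroup.eq_top_of_card_eq _ (by rw [hk, hA16])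
    have : IsCyclic (MulAut X) := by
      have : IsCyclic (ZMod (Nat.card X))ˣ := by
        rw [hX17]; infer_instance
      exact isCyclic_of_surjective μ.symm μ.symm.surjective
    obtain ⟨a, ha⟩ := IsCyclic.exists_ofOrder_eq_natCard (α := MulAut X)
    rw [hA16] at ha
    obtain ⟨n, rfl⟩ : a ∈ π.range := htop ▸ Subgroup.mem_top a
    obtain ⟨q, hq⟩ : 16 ∣ orderOf (n : Cfsg.Spor.J3 F ω) := by
      rw [orderOf_submonoid, ← ha]; exact orderOf_map_dvd π n
    have hv : orderOf ((n : Cfsg.Spor.J3 F ω) ^ q) = 2 ^ 4 := by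
      rw [orderOf_pow' _ (fun e => by rw [e, mul_zero] at hq; exact (orderOf_pos _).ne' hq), hq,
        Nat.gcd_mul_left_left, Nat.mul_div_cancel _ (Nat.pos_of_ne_zero fun e => by
          rw [e, mul_zero] at hq; exact (orderOf_pos _).ne' hq)]
      norm_num
    have := orderOf_dvd_of_pow_eq_one (pow_eight h hv)
    rw [hv] at this
    norm_num at this
  have hN : Nat.card N = 17 * m * 8 := by
    have h1 := (C.subgroupOf N).card_mul_index
    rw [hidx, h8, Nat.card_congr (Subgroup.subgroupOfEquivOfLe hCN).toEquiv, hm] at h1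
    exact h1.symm
  have hfac : (Nat.card (Cfsg.Spor.J3 F ω)).factorization 17 = 1 := by
    rw [h.card_J3, show (50232960 : ℕ) = 17 ^ 1 * 2954880 by norm_num,
      Nat.factorization_mul (by norm_num) (by norm_num), Finsupp.add_apply,
      Nat.Prime.factorization_pow (by norm_num), Finsupp.single_eq_same,
      Nat.factorization_eq_zero_of_not_dvd (by norm_num)]
  let S : Sylow 17 (Cfsg.Spor.J3 F ω) := Sylow.ofCard X (by rw [hX17, hfac, pow_one])
  have hn : N.index % 17 = 1 := by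
    have h1 := card_sylow_modEq_one 17 (Cfsg.Spor.J3 F ω)
    rw [S.card_eq_index_normalizer] at h1
    exact h1
  have hprod : 17 * m * 8 * N.index = 50232960 := by
    rw [← hN, N.card_mul_index, h.card_J3]
  have hkey : ∀ m' ≤ 1215, m' ∣ 1215 → (369360 / m') % 17 = 1 → m' = 1 := by decide +kernel
  have hmi : N.index = 369360 / m := by
    have hm0 : 0 < m := Nat.pos_of_dvd_of_pos hm' (by norm_num)
    have : m * N.index = 369360 := by
      have e : 136 * (m * N.index) = 136 * 369360 := by rw [← mul_assoc]; linarith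
      exact Nat.eq_of_mul_eq_mul_left (by norm_num) e
    rw [← this, Nat.mul_div_cancel_left _ hm0]
  exact hkey m (Nat.le_of_dvd (by norm_num) hm') hm' (hmi ▸ hn)

/-- The named elements generate. -/
theorem generate {x y z c : Cfsg.Spor.J3 F ω} (hx : (jc h).Rep xE x) (hy : (jc h).Rep yE y)
    (hz : (jc h).Rep zTwo z) (hc : (jc h).Rep cE c) (H : Subgroup (Cfsg.Spor.J3 F ω))
    (hxH : x ∈ H) (hyH : y ∈ H) (hzH : z ∈ H) (hcH : c ∈ H) : H = ⊤ := by
  have hw := words_ok
  simp only [Bool.and_eq_true, beq_iff_eq, List.all_eq_true] at hw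
  obtain ⟨hmap, hcan⟩ := hw
  have hword : ∀ w : List ℕ, ∃ u ∈ H,
      (jc h).Rep (genWord PcJankoThree.cmul PcJankoThree.oneN [xE, yE, zTwo, cE] w) u := by
    intro w
    induction w with
    | nil => exact ⟨1, one_mem H, (jc h).rep_one⟩
    | cons i w ih =>
      obtain ⟨u, hu, hur⟩ := ih
      obtain ⟨g, hg, hgr⟩ : ∃ g ∈ H, (jc h).Rep ([xE, yE, zTwo, cE].getD i PcJankoThree.oneN) g := by
        match i with
        | 0 => exact ⟨x, hxH, hx⟩
        | 1 => exact ⟨y, hyH, hy⟩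
        | 2 => exact ⟨z, hzH, hz⟩
        | 3 => exact ⟨c, hcH, hc⟩
        | i + 4 => exact ⟨1, one_mem H, (jc h).rep_one⟩
      exact ⟨g * u, mul_mem hg hu, (jc h).rep_mul hgr hur⟩
  have htop : ∀ g : threeJ3 F ω, (QuotientGroup.mk g : Cfsg.Spor.J3 F ω) ∈ H := by
    have hle : threeJ3 F ω ≤ (H.comap (QuotientGroup.mk' _)).map (threeJ3 F ω).subtype := by
      refine le_trans h.threeJ3_eq.le ((Subgroup.closure_le _).mpr ?_)
      rintro g ⟨a, ha, e⟩
      obtain ⟨g', hg', e'⟩ := h.topGens_mem a ha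
      obtain rfl : g = g' := h.emb_injective (e.trans e'.symm)
      have hmem : PcJankoThree.norm a ∈
          topWordsC.map (genWord PcJankoThree.cmul PcJankoThree.oneN [xE, yE, zTwo, cE]) := by
        rw [hmap]; exact List.mem_map_of_mem ha
      obtain ⟨w, -, hw⟩ := List.mem_map.mp hmem
      obtain ⟨u, hu, hur⟩ := hword w
      rw [hw] at hur
      have hg : (jc h).Rep (PcJankoThree.norm a) (QuotientGroup.mk (⟨g, hg'⟩ : threeJ3 F ω)) :=
        PcJankoThree.rep_norm h (hcan a ha) (g := ⟨g, hg'⟩) e' (PcJankoThree.norm_norm h (hcan a ha))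
      refine ⟨⟨g, hg'⟩, ?_, rfl⟩
      show (QuotientGroup.mk (⟨g, hg'⟩ : threeJ3 F ω) : Cfsg.Spor.J3 F ω) ∈ H
      rw [← (jc h).rep_uniq hur hg]
      exact hu
    intro g
    obtain ⟨g', hg', e⟩ := hle g.2
    obtain rfl := Subtype.ext e
    exact hg'
  refine eq_top_iff.mpr fun v _ => ?_
  obtain ⟨g, rfl⟩ := QuotientGroup.mk_surjective v
  exact htop g

/-- Every automorphism is inner times one with two possible values on the fourth generator. -/
theorem normalise {x y z c : Cfsg.Spor.J3 F ω} (hx : (jc h).Rep xE x) (hy : (jc h).Rep yE y)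
    (hz : (jc h).Rep zTwo z) (hc : (jc h).Rep cE c) (α : MulAut (Cfsg.Spor.J3 F ω)) :
    ∃ g, g * α x * g⁻¹ = x ∧ g * α y * g⁻¹ = y ∧ g * α z * g⁻¹ = z ∧
      ((jc h).Rep cE (g * α c * g⁻¹) ∨ (jc h).Rep cE' (g * α c * g⁻¹)) := by
  have := finite_J3 h
  have : Fact (Nat.Prime 17) := ⟨by norm_num⟩
  obtain ⟨hox, hoz, hyx, hzy, hzx⟩ := named_rels h hx hy hz
  have hx17 : x ^ 17 = 1 := hox ▸ pow_orderOf_eq_one x
  -- the element of order 17
  have hstep1 : ∃ g, ∃ k, (k = 1 ∨ k = 3) ∧ g * α x * g⁻¹ = x ^ k := by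
    have hfac : (Nat.card (Cfsg.Spor.J3 F ω)).factorization 17 = 1 := by
      rw [h.card_J3, show (50232960 : ℕ) = 17 ^ 1 * 2954880 by norm_num,
        Nat.factorization_mul (by norm_num) (by norm_num), Finsupp.add_apply,
        Nat.Prime.factorization_pow (by norm_num), Finsupp.single_eq_same,
        Nat.factorization_eq_zero_of_not_dvd (by norm_num)]
    let S : Sylow 17 (Cfsg.Spor.J3 F ω) :=
      Sylow.ofCard (Subgroup.zpowers x) (by rw [Nat.card_zpowers, hox, hfac, pow_one])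
    let S' : Sylow 17 (Cfsg.Spor.J3 F ω) :=
      Sylow.ofCard (Subgroup.zpowers (α x)) (by rw [Nat.card_zpowers, MulEquiv.orderOf_eq, hox, hfac, pow_one])
    obtain ⟨g, hg⟩ := MulAction.exists_smul_eq (Cfsg.Spor.J3 F ω) S' S
    have hmem : g * α x * g⁻¹ ∈ (S : Subgroup (Cfsg.Spor.J3 F ω)) := by
      rw [← hg]
      exact ⟨α x, Subgroup.mem_zpowers (α x), rfl⟩
    obtain ⟨i, hi⟩ := (mem_powers_iff_mem_zpowers (x := x)).mpr hmem
    change x ^ i = _ at hi
    have hi' : g * α x * g⁻¹ = x ^ (i % 17) := by rw [← hi, ← hox, pow_mod_orderOf]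
    have hne : i % 17 ≠ 0 := by
      intro e
      rw [e, pow_zero, conj_eq_one_iff, MulEquiv.map_eq_one_iff] at hi'
      rw [hi', orderOf_one] at hox
      norm_num at hox
    have hdec : ∀ r < 17, r = 0 ∨ ∃ n < 8, 2 ^ n % 17 = r ∨ 3 * 2 ^ n % 17 = r := by decide +kernel
    obtain ⟨n, -, hn⟩ := (hdec _ (Nat.mod_lt i (by norm_num))).resolve_left hne
    have hpow : ∀ (n k : ℕ), y ^ n * x ^ k * (y ^ n)⁻¹ = x ^ (k * 2 ^ n) := by
      intro n
      induction n with
      | zero => intro k; simp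
      | succ n ih =>
        intro k
        calc y ^ (n + 1) * x ^ k * (y ^ (n + 1))⁻¹ = y * (y ^ n * x ^ k * (y ^ n)⁻¹) * y⁻¹ := by group
          _ = x ^ (k * 2 ^ (n + 1)) := by rw [ih, ← conj_pow, hyx, ← pow_mul]; ring_nf
    obtain ⟨k, hk, hkn⟩ : ∃ k, (k = 1 ∨ k = 3) ∧ k * 2 ^ n % 17 = i % 17 := by
      rcases hn with hn | hn
      · exact ⟨1, Or.inl rfl, by rw [one_mul, hn]⟩
      · exact ⟨3, Or.inr rfl, hn⟩
    refine ⟨(y ^ n)⁻¹ * g, k, hk, ?_⟩
    calc (y ^ n)⁻¹ * g * α x * ((y ^ n)⁻¹ * g)⁻¹ = (y ^ n)⁻¹ * (g * α x * g⁻¹) * y ^ n := by group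
      _ = (y ^ n)⁻¹ * (y ^ n * x ^ k * (y ^ n)⁻¹) * y ^ n := by
        rw [hi', hpow]
        congr 2
        rw [← hkn, ← hox, pow_mod_orderOf]
      _ = x ^ k := by group
  obtain ⟨g1, k, hk, hg1⟩ := hstep1
  let β1 := (MulAut.conj g1) * α
  have hβ1 : ∀ v, β1 v = g1 * α v * g1⁻¹ := fun v => rfl
  -- the involution
  have hcen : ∀ v, v * x ^ k = x ^ k * v → v ∈ Subgroup.zpowers x := by
    intro v hv
    refine centralizer_eq h hx hy hz ?_
    rcases hk with rfl | rfl
    · simpa using hv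
    · have : x = (x ^ 3) ^ 6 := by
        rw [← pow_mul, show 3 * 6 = 17 + 1 from rfl, pow_succ, hx17, one_mul]
      rw [this]
      exact ((show Commute v (x ^ 3) from hv).pow_right 6).eq
  have hzk : z * x ^ k * z⁻¹ = (x ^ k)⁻¹ := by rw [← conj_pow, hzx, inv_pow]
  have hz1 : β1 z * x ^ k * (β1 z)⁻¹ = (x ^ k)⁻¹ := by
    rw [show x ^ k = β1 x from hg1.symm, ← map_inv, ← map_inv, ← map_mul, ← map_mul, hzx]
  obtain ⟨i, hi⟩ := mem_powers_iff_mem_zpowers.mpr (hcen (z⁻¹ * β1 z) (by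
    rw [← mul_inv_eq_iff_eq_mul]
    calc z⁻¹ * β1 z * x ^ k * (z⁻¹ * β1 z)⁻¹ = z⁻¹ * (β1 z * x ^ k * (β1 z)⁻¹) * z := by group
      _ = x ^ k := by
        rw [hz1, ← hzk]; group))
  change x ^ i = _ at hi
  -- the conjugation that fixes the involution
  let β := (MulAut.conj (x ^ (9 * i))) * β1
  have hβ : ∀ v, β v = x ^ (9 * i) * β1 v * (x ^ (9 * i))⁻¹ := fun v => rfl
  have hβx : β x = x ^ k := by
    rw [hβ, hβ1, hg1, ← pow_add, add_comm, pow_add, mul_inv_cancel_right]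
  have hβz : β z = z := by
    have e : β1 z = z * x ^ i := by rw [hi, mul_inv_cancel_left]
    have hzn : x ^ (9 * i) * z = z * (x ^ (9 * i))⁻¹ := by
      rw [← inv_pow, ← hzx, conj_pow]
      have hz2 : z * z = 1 := by rw [← sq, ← hoz, pow_orderOf_eq_one]
      rw [inv_eq_of_mul_eq_one_right hz2, ← mul_assoc, ← mul_assoc, hz2, one_mul]
    have e1 : x ^ i = x ^ (9 * i) * x ^ (9 * i) := by
      rw [← pow_add, show 9 * i + 9 * i = i + 17 * i by ring, pow_add, pow_mul, hx17, one_pow, mul_one]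
    rw [hβ, e, ← mul_assoc, hzn, e1]
    group
  -- the element of order eight
  have hβy : β y = y := by
    have h1 : β y * x ^ k * (β y)⁻¹ = (x ^ k) ^ 2 := by
      rw [← hβx, ← map_inv, ← map_mul, ← map_mul, hyx, map_pow]
    obtain ⟨j, hj⟩ := mem_powers_iff_mem_zpowers.mpr (hcen (y⁻¹ * β y) (by
      rw [← mul_inv_eq_iff_eq_mul]
      calc y⁻¹ * β y * x ^ k * (y⁻¹ * β y)⁻¹ = y⁻¹ * (β y * x ^ k * (β y)⁻¹) * y := by group
        _ = x ^ k := by
          rw [h1, ← pow_mul, mul_comm, pow_mul, ← hyx, conj_pow]; group))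
    change x ^ j = _ at hj
    have hcomm : z * x ^ j = x ^ j * z := by
      rw [hj]
      have h2 : z * β y = β y * z := by
        conv_lhs => rw [← hβz]
        conv_rhs => rw [← hβz]
        rw [← map_mul, ← map_mul, hzy]
      have h3 : z * y⁻¹ = y⁻¹ * z := ((show Commute z y from hzy).inv_right).eq
      rw [← mul_assoc, h3, mul_assoc, h2, mul_assoc]
    have hxj : z * x ^ j * z⁻¹ = (x ^ j)⁻¹ := by rw [← conj_pow, hzx, inv_pow]
    rw [hcomm, mul_inv_cancel_right, eq_inv_iff_mul_eq_one, ← pow_add] at hxj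
    have hd := orderOf_dvd_of_pow_eq_one hxj
    rw [hox] at hd
    obtain ⟨q, rfl⟩ : 17 ∣ j := by omega
    rw [pow_mul, hx17, one_pow, eq_inv_mul_iff_mul_eq, mul_one] at hj
    exact hj.symm
  -- the fourth generator
  have hr := rel_ok
  simp only [Bool.and_eq_true, beq_iff_eq, bne_iff_ne] at hr
  have hzc : z * c = c * z := comm_of_codes h hz hc hr.1.2
  have hbc : β c * z = z * β c := by
    conv_lhs => rw [← hβz]
    conv_rhs => rw [← hβz]
    rw [← map_mul, ← map_mul, hzc]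
  obtain ⟨a, ha, har⟩ := mem_cEls h hz hoz hbc
  have hs := sig_one
  simp only [Bool.and_eq_true, List.all_eq_true, Bool.or_eq_true, Bool.not_eq_true', beq_iff_eq] at hs
  have hsig := (sigB_iff h (rep_pw h hx 2) hc).mp hs.1
  have hsig' : (β c) * (β c) ≠ 1 ∧ β c * β c * (β c * β c) = 1 ∧ (x ^ k) ^ 2 * β c ≠ 1 ∧
      (x ^ k) ^ 2 * β c * ((x ^ k) ^ 2 * β c) * ((x ^ k) ^ 2 * β c) = 1 := by
    rw [← hβx, ← map_pow, ← map_mul, ← map_mul, ← map_mul, ← map_mul, ← map_mul]
    simp only [ne_eq, MulEquiv.map_eq_one_iff]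
    exact hsig
  have hsa : ∀ e, (jc h).Rep e ((x ^ k) ^ 2) → sigB e a = true := fun e he =>
    (sigB_iff h he har).mpr hsig'
  have hk1 : k = 1 := by
    rcases hk with rfl | rfl
    · rfl
    · exfalso
      have h6 := hsa (pw xE 6) (by rw [← pow_mul]; exact rep_pw h hx 6)
      have := List.all_eq_true.mp sig_three a ha
      rw [h6] at this
      simp at this
  subst hk1
  have h2 := hsa (pw xE 2) (by rw [pow_one]; exact rep_pw h hx 2)
  have hfin := hs.2 a ha
  have hconj : ∀ v, x ^ (9 * i) * g1 * α v * (x ^ (9 * i) * g1)⁻¹ = β v := fun v => by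
    rw [hβ, hβ1]; group
  refine ⟨x ^ (9 * i) * g1, ?_, ?_, ?_, ?_⟩
  · rw [hconj, hβx, pow_one]
  · rw [hconj, hβy]
  · rw [hconj, hβz]
  · rw [hconj]
    rcases hfin with (hf | rfl) | rfl
    · rw [h2] at hf; exact absurd hf (by simp)
    · exact Or.inl har
    · exact Or.inr har

/-- At most two classes of automorphisms. -/
theorem card_out_le : Nat.card (Cfsg.Out (Cfsg.Spor.J3 F ω)) ≤ 2 := by
  classical
  obtain ⟨⟨x, hx⟩, ⟨y, hy⟩, ⟨c, hc⟩, ⟨z, hz⟩, -⟩ := exists_named h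
  choose g hgx hgy hgz hgc using normalise h hx hy hz hc
  let f : Cfsg.Out (Cfsg.Spor.J3 F ω) → Fin 2 := fun q =>
    if (jc h).Rep cE (g q.out * q.out c * (g q.out)⁻¹) then 0 else 1
  have hinj : Function.Injective f := by
    intro q q' e
    suffices heq : (MulAut.conj (g q.out)) * q.out = (MulAut.conj (g q'.out)) * q'.out by
      have h1 : ∀ v, (QuotientGroup.mk (MulAut.conj v) : Cfsg.Out (Cfsg.Spor.J3 F ω)) = 1 :=
        fun v => (QuotientGroup.eq_one_iff _).mpr ⟨v, rfl⟩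
      have h2 := congrArg (QuotientGroup.mk (s := Cfsg.Inn (Cfsg.Spor.J3 F ω))) heq
      rw [QuotientGroup.mk_mul, QuotientGroup.mk_mul, h1, h1, one_mul, one_mul] at h2
      simpa only [QuotientGroup.out_eq'] using h2
    have hmem : ∀ v, v ∈ [x, y, z, c] →
        ((MulAut.conj (g q.out)) * q.out) v = ((MulAut.conj (g q'.out)) * q'.out) v := by
      intro v hv
      simp only [List.mem_cons, List.not_mem_nil, or_false] at hv
      show g q.out * q.out v * (g q.out)⁻¹ = g q'.out * q'.out v * (g q'.out)⁻¹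
      rcases hv with rfl | rfl | rfl | rfl
      · rw [hgx, hgx]
      · rw [hgy, hgy]
      · rw [hgz, hgz]
      · simp only [f] at e
        by_cases h1 : (jc h).Rep cE (g q.out * q.out v * (g q.out)⁻¹) <;>
          by_cases h2 : (jc h).Rep cE (g q'.out * q'.out v * (g q'.out)⁻¹)
        · exact (jc h).rep_uniq h1 h2
        · rw [if_pos h1, if_neg h2] at e; simp at e
        · rw [if_neg h1, if_pos h2] at e; simp at e
        · exact (jc h).rep_uniq ((hgc q.out).resolve_left h1) ((hgc q'.out).resolve_left h2)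
    have htop := generate h hx hy hz hc
      (MonoidHom.eqLocus ((MulAut.conj (g q.out)) * q.out).toMonoidHom ((MulAut.conj (g q'.out)) * q'.out).toMonoidHom)
      (hmem x (by simp)) (hmem y (by simp)) (hmem z (by simp)) (hmem c (by simp))
    refine MulEquiv.ext fun v => ?_
    exact htop.ge (Subgroup.mem_top v)
  exact (Nat.card_le_card_of_injective f hinj).trans (by simp)

/-- The image of an element of the cover under the semilinear map. -/
theorem exists_semi (g : threeJ3 F ω) : ∃ g' : threeJ3 F ω,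
    h.emb g'.1 = decF2 18 semi * h.emb g.1 * decF2 18 semi := by
  have hs := semi_ok
  simp only [Bool.and_eq_true, beq_iff_eq, List.all_eq_true, Bool.or_eq_true, List.contains_iff_mem,
    List.any_eq_true] at hs
  obtain ⟨⟨hDD, -⟩, hgen⟩ := hs
  have hD : decF2 18 semi * decF2 18 semi = 1 := by rw [← mulF2_dec, hDD, J3.dec_one]
  obtain ⟨g, hg⟩ := g
  induction hg using Subgroup.closure_induction with
  | mem g hg =>
    obtain ⟨c, hc, e⟩ := h.gen_code hg
    have e' : h.emb g = decF2 18 c := e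
    rcases hgen c hc with hd | ⟨d, hd, hdd⟩
    · obtain ⟨g', hg', eg'⟩ := h.allGens_mem _ hd
      exact ⟨⟨g', hg'⟩, by rw [eg', mulF2_dec, mulF2_dec, e']⟩
    · obtain ⟨g', hg', eg'⟩ := h.allGens_mem _ hd
      exact ⟨⟨g', hg'⟩ * ⟨g', hg'⟩, by rw [Subgroup.coe_mul, map_mul, eg', ← mulF2_dec, hdd, mulF2_dec, mulF2_dec, e']⟩
  | one => exact ⟨1, by rw [OneMemClass.coe_one, map_one, mul_one, hD]⟩
  | mul a b _ _ ha hb =>
    obtain ⟨a', ea⟩ := ha
    obtain ⟨b', eb⟩ := hb
    refine ⟨a' * b', ?_⟩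
    rw [Subgroup.coe_mul, map_mul, ea, eb, map_mul]
    simp only [mul_assoc, ← mul_assoc (decF2 18 semi) (decF2 18 semi), hD, one_mul]
  | inv a _ ha =>
    obtain ⟨a', ea⟩ := ha
    refine ⟨a'⁻¹, ?_⟩
    have h1 : h.emb a'.1 * (decF2 18 semi * h.emb a⁻¹ * decF2 18 semi) = 1 := by
      rw [ea]
      simp only [mul_assoc, ← mul_assoc (decF2 18 semi) (decF2 18 semi), hD, one_mul,
        ← mul_assoc (h.emb a) (h.emb a⁻¹), ← map_mul, mul_inv_cancel, map_one]
    calc h.emb (a'⁻¹).1 = h.emb (a'⁻¹).1 * (h.emb a'.1 * (decF2 18 semi * h.emb a⁻¹ * decF2 18 semi)) := by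
          rw [h1, mul_one]
      _ = decF2 18 semi * h.emb a⁻¹ * decF2 18 semi := by
          rw [← mul_assoc (h.emb _), ← map_mul, ← Subgroup.coe_mul, inv_mul_cancel, OneMemClass.coe_one,
            map_one, one_mul]

/-- There is an outer automorphism. -/
theorem exists_outer : ∃ α : MulAut (Cfsg.Spor.J3 F ω), α ∉ Cfsg.Inn (Cfsg.Spor.J3 F ω) := by
  have := h.finite_threeJ3
  have hs := semi_ok
  simp only [Bool.and_eq_true, beq_iff_eq] at hs
  obtain ⟨⟨hDD, hS⟩, -⟩ := hs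
  have hD : decF2 18 semi * decF2 18 semi = 1 := by rw [← mulF2_dec, hDD, J3.dec_one]
  choose τ hτ using exists_semi h
  have hinv : ∀ g, τ (τ g) = g := fun g => Subtype.ext (h.emb_injective (by
    rw [hτ, hτ]
    simp only [mul_assoc, hD, mul_one]
    rw [← mul_assoc, hD, one_mul]))
  let e : threeJ3 F ω ≃* threeJ3 F ω :=
    { toFun := τ
      invFun := τ
      left_inv := hinv
      right_inv := hinv
      map_mul' := fun a b => Subtype.ext (h.emb_injective (by
        rw [hτ, Subgroup.coe_mul, Subgroup.coe_mul, map_mul, map_mul, hτ, hτ]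
        simp only [mul_assoc, ← mul_assoc (decF2 18 semi) (decF2 18 semi), hD, one_mul])) }
  have hmap : (Subgroup.center (threeJ3 F ω)).map (e : threeJ3 F ω →* threeJ3 F ω) = Subgroup.center (threeJ3 F ω) :=
    Subgroup.characteristic_iff_map_eq.mp inferInstance e
  refine ⟨QuotientGroup.congr _ _ e hmap, fun hin => ?_⟩
  obtain ⟨v, hv⟩ := hin
  obtain ⟨g, rfl⟩ := QuotientGroup.mk_surjective v
  have hagree : ∀ a, ∃ d ∈ Subgroup.center (threeJ3 F ω), τ a = g * a * g⁻¹ * d := by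
    intro a
    have h1 := congrArg (fun α : MulAut (Cfsg.Spor.J3 F ω) => α (QuotientGroup.mk a)) hv
    have h2 : (QuotientGroup.mk (g * a * g⁻¹) : Cfsg.Spor.J3 F ω) = QuotientGroup.mk (τ a) := h1
    exact ⟨_, QuotientGroup.eq.mp h2, (mul_inv_cancel_left _ _).symm⟩
  have hcom : ∀ a b : threeJ3 F ω, τ ⁅a, b⁆ = g * ⁅a, b⁆ * g⁻¹ := by
    intro a b
    obtain ⟨d, hd, ea⟩ := hagree a
    obtain ⟨d', hd', eb⟩ := hagree b
    show e.toMonoidHom ⁅a, b⁆ = (MulAut.conj g).toMonoidHom ⁅a, b⁆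
    rw [map_commutatorElement, map_commutatorElement]
    show ⁅τ a, τ b⁆ = ⁅g * a * g⁻¹, g * b * g⁻¹⁆
    rw [ea, eb]
    generalize g * a * g⁻¹ = A
    generalize g * b * g⁻¹ = B
    have c1 : ∀ v, d * v = v * d := fun v => (Subgroup.mem_center_iff.mp hd v).symm
    have c2 : ∀ v, d' * v = v * d' := fun v => (Subgroup.mem_center_iff.mp hd' v).symm
    rw [commutatorElement_def, commutatorElement_def, mul_inv_rev, mul_inv_rev]
    calc A * d * (B * d') * (d⁻¹ * A⁻¹) * (d'⁻¹ * B⁻¹)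
        = A * ((d * B) * d' * d⁻¹) * A⁻¹ * (d'⁻¹ * B⁻¹) := by group
      _ = A * (B * (d * d') * d⁻¹) * A⁻¹ * (d'⁻¹ * B⁻¹) := by rw [c1 B]; group
      _ = A * (B * d') * A⁻¹ * (d'⁻¹ * B⁻¹) := by rw [c1 d']; group
      _ = A * B * (d' * A⁻¹) * (d'⁻¹ * B⁻¹) := by group
      _ = A * B * A⁻¹ * B⁻¹ := by rw [c2 A⁻¹]; group
  have hall : ∀ a, τ a = g * a * g⁻¹ := by
    have hperf : commutator (threeJ3 F ω) = ⊤ := by
      have h1 := PcJankoThree.commutator_sup_center_eq_top h.isSimple_J3 (by rw [h.card_J3]; norm_num)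
      rwa [sup_eq_left.mpr (PcJankoThree.center_le_commutator h)] at h1
    have hle : commutator (threeJ3 F ω) ≤ MonoidHom.eqLocus e.toMonoidHom (MulAut.conj g).toMonoidHom := by
      rw [commutator_def]
      exact Subgroup.commutator_le.mpr fun a _ b _ => hcom a b
    exact fun a => hle (hperf.ge (Subgroup.mem_top a))
  obtain ⟨s, hs, es⟩ := PcJankoThree.exists_scalar h 1
  have h1 := hτ s
  rw [hall, Subgroup.mem_center_iff.mp hs g, mul_inv_cancel_right, es] at h1
  have h2 : decF2 18 (scal 1) = decF2 18 (scal 2) := by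
    rw [← hS, mulF2_dec, mulF2_dec]
    exact h1
  exact absurd (dec_inj _ _ (by decide +kernel) (by decide +kernel) h2) (by decide +kernel)

/-- The outer automorphism group has order two. -/
theorem card_out : Nat.card (Cfsg.Out (Cfsg.Spor.J3 F ω)) = 2 := by
  have := finite_J3 h
  refine le_antisymm (card_out_le h) ?_
  obtain ⟨α, hα⟩ := exists_outer h
  have : Nontrivial (Cfsg.Out (Cfsg.Spor.J3 F ω)) :=
    ⟨⟨QuotientGroup.mk α, 1, fun e => hα ((QuotientGroup.eq_one_iff α).mp e)⟩⟩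
  exact Finite.one_lt_card

end CfsgLib.OutJThree
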